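import Groth.Agent.ResProp.EF.K774.PureGr
import Groth.Agent.ResProp.EF.K303.KCx
import Groth.Agent.ResProp.EF.K661.GluedOut

/-!
# The inputs (a), (b) of `pure_gr` for the object `e.Tot` and `W = (F m ∩ deg n)^I`

`gfacts_of_glued`, `ha_Tot`, `hb_Tot`.
-/

set_option autoImplicit false
set_option linter.dupNamespace false
set_option backward.isDefEq.respectTransparency false

open CategoryTheory Opposite TensorProduct

noncomputable section

namespace Groth.Agent.ResProp.EF.K774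

open K784.BC K784.PM K741.RP EF56 K294 Grp Arch K980 K980.BC K959 K959.CoBC K276 K303

universe u v

variable {k : Type u} [CommRing k] {A : NFᵒᵖ ⥤ CommRingCat.{u}} [GRF k A]

section Gen

variable {E : Gp k} {P : Type u} [CommRing P] [Algebra (A.obj (op ⟨0⟩)) P] (X : EDesc k A E P)

/-- the `P`-action on level `⟨1⟩` for an object given by a descent datum -/
theorem actM_sobj_bc (q : P) (z : BC (vx A ⟨1⟩ 0) X.K) :
    actM X.sobj (bc (vx A ⟨1⟩ 0) q) z = BC.map (vx A ⟨1⟩ 0) (lP P X.K q) z := by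
  have h : (actM X.sobj (bc (vx A ⟨1⟩ 0) q) : BC (vx A ⟨1⟩ 0) X.K →ₗ[A.obj (op ⟨1⟩)] BC (vx A ⟨1⟩ 0) X.K) =
      BC.map (vx A ⟨1⟩ 0) (lP P X.K q) := BC.hom_ext fun m => by
    have h1 := actM_bc_map X.sobj q (emb0 X m)
    rw [map0_emb0, ← map_smul, map0_emb0] at h1
    exact h1.trans (map_bc (lP P X.K q) m).symm
  exact congr($h z)

/-- `gen` on level `⟨1⟩` for the submodule coming from `W ≤ K` -/
theorem gen_sobj (W : Submodule P X.K) :
    gen X.sobj.M (rS X.sobj (mapW X W)) ⟨1⟩ = subBC (vx A ⟨1⟩ 0) (W.restrictScalars (A.obj (op ⟨0⟩))) := by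
  rw [subBC_eq_span]
  refine congrArg (Submodule.span _) ?_
  ext z
  constructor
  · rintro ⟨_, ⟨v, hv, rfl⟩, rfl⟩
    exact ⟨v, hv, (map0_emb0 X v).symm⟩
  · rintro ⟨v, hv, rfl⟩
    exact ⟨emb0 X v, ⟨v, hv, rfl⟩, map0_emb0 X v⟩

end Gen

variable {x : PrimeSpectrum (A.obj (op ⟨0⟩))} {c : CoverDatum k A x} {o : ALGOut c} {s : Desc A o.X.K}

/-- `Glued` gives `GFacts` -/
theorem gfacts_of_glued (hs : Glued o s) : GFacts o s where
  hd := hs.isHom_d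
  hpr := hs.isHom_pr
  F0 := hs.σ_F
  F1 := hs.symm_F

theorem actQ_prz (n : ℤ) (y : BC (vx A ⟨1⟩ 0) o.X.Q) (z : BC (vx A ⟨1⟩ 0) o.X.K) :
    BC.map (vx A ⟨1⟩ 0) ((o.X.prz n).restrictScalars (A.obj (op ⟨0⟩))) (o.X.toOpCpx.actQ (vx A ⟨1⟩ 0) y z) =
      o.X.toOpCpx.actQ (vx A ⟨1⟩ 0) y (BC.map (vx A ⟨1⟩ 0) ((o.X.prz n).restrictScalars (A.obj (op ⟨0⟩))) z) := by
  unfold OpCpx.actQ
  induction y using BC.ind with
  | h0 => simp only [map_zero, LinearMap.zero_apply]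
  | h1 r q =>
    simp only [LinearMap.map_smul, LinearMap.smul_apply]
    congr 1
    induction z using BC.ind with
    | h0 => simp only [map_zero]
    | h1 r m =>
      simp only [LinearMap.map_smul, BC.bil_bc, BC.map_bc, smulR_apply, LinearMap.restrictScalars_apply]
    | h2 a b ha hb => simp only [map_add, ha, hb]
  | h2 a b ha hb => simp only [map_add, LinearMap.add_apply, ha, hb]

variable (e : ESide o s)

theorem proj_actM (i : e.I) (y : BC (vx A ⟨1⟩ 0) o.X.Q) (z : BC (vx A ⟨1⟩ 0) (e.I → o.X.K)) :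
    BC.map (vx A ⟨1⟩ 0) (LinearMap.proj i : (e.I → o.X.K) →ₗ[A.obj (op ⟨0⟩)] o.X.K) (actM e.edesc.sobj y z) =
      o.X.toOpCpx.actQ (vx A ⟨1⟩ 0) y
        (BC.map (vx A ⟨1⟩ 0) (LinearMap.proj i : (e.I → o.X.K) →ₗ[A.obj (op ⟨0⟩)] o.X.K) z) := by
  unfold OpCpx.actQ
  induction y using BC.ind with
  | h0 =>
    have h1 : actM e.edesc.sobj 0 z = (0 : BC (vx A ⟨1⟩ 0) (e.I → o.X.K)) := by
      rw [map_zero]
      rfl
    rw [h1, map_zero, map_zero, LinearMap.zero_apply]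
  | h1 r q =>
    have h1 : actM e.edesc.sobj (r • bc (vx A ⟨1⟩ 0) q) z =
        r • (BC.map (vx A ⟨1⟩ 0) (lP o.X.Q (e.I → o.X.K) q) z : BC (vx A ⟨1⟩ 0) (e.I → o.X.K)) := by
      rw [LinearMap.map_smul, LinearMap.smul_apply]
      exact congrArg (r • ·) (actM_sobj_bc e.edesc q z)
    rw [h1]
    simp only [LinearMap.map_smul, LinearMap.smul_apply]
    congr 1
    rw [BC.map_map]
    clear h1
    induction z using BC.ind with
    | h0 => simp only [map_zero]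
    | h1 r m =>
      simp only [LinearMap.map_smul, BC.bil_bc, BC.map_bc, smulR_apply]
      rfl
    | h2 a b ha hb => simp only [map_add, ha, hb]
  | h2 a b ha hb =>
    have h1 : actM e.edesc.sobj (a + b) z =
        ((actM e.edesc.sobj a z + actM e.edesc.sobj b z : BC (vx A ⟨1⟩ 0) (e.I → o.X.K))) := by
      rw [map_add]
      rfl
    rw [h1]
    simp only [map_add, LinearMap.add_apply]
    rw [ha, hb]

/-- **(a)** -/
theorem ha_Tot (n : ℤ) (m : ℕ) (q : o.X.Q) (hq : piR o q = 0) :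
    ∀ w ∈ mapW e.edesc (WF e n m), q • w ∈ mapW e.edesc (WF e n (m + 1)) := by
  rintro _ ⟨v, hv, rfl⟩
  refine ⟨q • v, ?_, map_smul _ q v⟩
  have hq' : o.X.π q = 0 := o.iD.injective (hq.trans (map_zero _).symm)
  have hv' := (mem_WF e).1 hv
  refine (mem_WF e).2 fun i => ⟨o.X.F_ker m q hq' _ (hv' i).1, ?_⟩
  change o.X.prz n (q • v i) = q • v i
  rw [map_smul, (hv' i).2]

/-- **(b)** -/
theorem hb_Tot (hs : Glued o s) (n : ℤ) (m : ℕ) (q : o.X.Q) :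
    ∃ y : BC (vx A ⟨1⟩ 0) o.X.Q, toD1 c.Y (piR o) y = rg c.Y.D (pt ⟨1⟩ 1) (piR o q) ∧
      ∀ w ∈ mapW e.edesc (WF e n m), actM e.Tot y (e.Tot.M.map (pt ⟨1⟩ 1) w) - e.Tot.M.map (pt ⟨1⟩ 1) (q • w) ∈
        gen e.Tot.M (rS e.Tot (mapW e.edesc (WF e n (m + 1)))) ⟨1⟩ := by
  have hπ : Function.Surjective (piR o) := o.iD.surjective.comp o.X.π_surj
  obtain ⟨y, hy⟩ := toD1_surjective c.Y (piR o) hπ (rg c.Y.D (pt ⟨1⟩ 1) (piR o q))
  refine ⟨y, hy, ?_⟩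
  have hy' : K661.toD1 o y = rg c.Y.D (pt ⟨1⟩ 1) (piR o q) := hy
  have g := gfacts_of_glued hs
  rintro _ ⟨v, hv, rfl⟩
  have hv' := (mem_WF e).1 hv
  have e1 : e.Tot.M.map (pt ⟨1⟩ 1) ((emb0 e.edesc).toLinearMap v) =
      (powE e.I s.σ.symm (bc (vx A ⟨1⟩ 1) v) : BC (vx A ⟨1⟩ 0) (e.I → o.X.K)) := map1_emb0 e.edesc v
  have e2 : e.Tot.M.map (pt ⟨1⟩ 1) (q • (emb0 e.edesc).toLinearMap v) =
      (powE e.I s.σ.symm (bc (vx A ⟨1⟩ 1) (q • v)) : BC (vx A ⟨1⟩ 0) (e.I → o.X.K)) := by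
    have h3 : q • (emb0 e.edesc).toLinearMap v = emb0 e.edesc (q • v) := (map_smul (emb0 e.edesc) q v).symm
    rw [h3]
    exact map1_emb0 e.edesc (q • v)
  have e3 : gen e.Tot.M (rS e.Tot (mapW e.edesc (WF e n (m + 1)))) ⟨1⟩ =
      subBC (vx A ⟨1⟩ 0) ((WF e n (m + 1)).restrictScalars (A.obj (op ⟨0⟩))) := gen_sobj e.edesc _
  rw [e3, e1, e2]
  refine mem_subBC_pi (I := e.I) (vx A ⟨1⟩ 0) ((o.X.F (m + 1) ⊓ o.X.deg n).restrictScalars (A.obj (op ⟨0⟩))) fun i => ?_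
  have e4 : BC.map (vx A ⟨1⟩ 0) (LinearMap.proj i : (e.I → o.X.K) →ₗ[A.obj (op ⟨0⟩)] o.X.K)
      ((show BC (vx A ⟨1⟩ 0) (e.I → o.X.K) from actM e.Tot y (powE e.I s.σ.symm (bc (vx A ⟨1⟩ 1) v))) -
        powE e.I s.σ.symm (bc (vx A ⟨1⟩ 1) (q • v))) =
      o.X.toOpCpx.actQ (vx A ⟨1⟩ 0) y (s.σ.symm (bc (vx A ⟨1⟩ 1) (v i))) - s.σ.symm (bc (vx A ⟨1⟩ 1) (q • v i)) := by
    rw [map_sub]
    refine congrArg₂ _ ((proj_actM e i y _).trans ?_) ?_
    · rw [proj_powE, map_bc]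
      rfl
    · rw [proj_powE, map_bc]
      rfl
  refine (congrArg (· ∈ _) e4).mpr ?_
  have h5 := hs.sem q y hy' m (v i) (hv' i).1
  -- the part of degree `n`
  have h6 : ∀ w : o.X.K, o.X.prz n w = w → BC.map (vx A ⟨1⟩ 0) ((o.X.prz n).restrictScalars (A.obj (op ⟨0⟩)))
      (s.σ.symm (bc (vx A ⟨1⟩ 1) w)) = s.σ.symm (bc (vx A ⟨1⟩ 1) w) := by
    intro w hw
    have h2 := (g.hprz n).σ_map (s.σ.symm (bc (vx A ⟨1⟩ 1) w))
    rw [LinearEquiv.apply_symm_apply, map_bc] at h2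
    have h3 : ((o.X.prz n).restrictScalars (A.obj (op ⟨0⟩))) w = w := hw
    rw [h3] at h2
    apply s.σ.injective
    rw [h2, LinearEquiv.apply_symm_apply]
  have h7 := map_prz_mem (o := o) (vx A ⟨1⟩ 0) n (m + 1) h5
  rw [map_sub, actQ_prz, h6 _ (hv' i).2, h6 (q • v i) (by rw [map_smul, (hv' i).2])] at h7
  exact h7

end Groth.Agent.ResProp.EF.K774

end
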