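import Groth.Agent.ResProp.EF.K774.HbTot
import Groth.Agent.ResProp.EF.K787.AdmRetr

/-!
# `StmtAsm` from the graded pieces in degree `n` (AD4)

`GrN e n m` : the `(c)`-input of `pure_gr` for `W = (F m ∩ deg n)^I`.  `stmtAsm_of : StmtGrN → StmtAsm`.
-/

set_option autoImplicit false
set_option linter.dupNamespace false
set_option backward.isDefEq.respectTransparency false

open CategoryTheory Opposite TensorProduct

noncomputable section

namespace Groth.Agent.ResProp.EF.K774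

open K784.BC K784.PM K741.RP EF56 K294 Grp Arch K980 K980.BC K959 K959.CoBC K276 K303

universe u v

variable {k : Type u} [CommRing k] {A : NFᵒᵖ ⥤ CommRingCat.{u}} [GRF k A]
  {x : PrimeSpectrum (A.obj (op ⟨0⟩))} {c : CoverDatum k A x} {o : ALGOut c} {s : Desc A o.X.K}

/-- the graded piece `(F m ∩ deg n)^I / (F (m+1) ∩ deg n)^I` with its coaction of `H` -/
structure GrN (e : ESide o s) (n : ℤ) (m : ℕ) : Type (u + 1) where
  L : Type u
  G : Type u
  [agL : AddCommGroup L]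
  [kL : Module k L]
  [qL : Module o.X.Q L]
  [agG : AddCommGroup G]
  [kG : Module k G]
  [qG : Module o.X.Q G]
  [tG : IsScalarTower k o.X.Q G]
  v : L →ₗ[k] e.Tot.M.obj ⟨0⟩
  hv : ∀ l, v l ∈ mapW e.edesc (WF e n m)
  hv' : ∀ w ∈ mapW e.edesc (WF e n m), ∃ l, v l = w
  vq : ∀ (q : o.X.Q) (l : L), v (q • l) = q • v l
  p : L →ₗ[k] G
  hp : Function.Surjective p
  pq : ∀ (q : o.X.Q) (l : L), p (q • l) = q • p l
  hpk : ∀ l, p l = 0 ↔ v l ∈ mapW e.edesc (WF e n (m + 1))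
  coH : HopfRep.Comod k c.H.O G
  compat : ∀ l : L, ∃ z : L ⊗[k] e.E.O, v.rTensor e.E.O z = (e.Tot.e.co ⟨0⟩).coact (v l) ∧
    p.rTensor e.E.O z = (e.ι : c.H.O →ₐ[k] e.E.O).toLinearMap.lTensor G (coH.coact (p l))
  hopf : ∀ (q : o.X.Q) (y : o.X.Q ⊗[k] c.H.O), (piK o).rTensor c.H.O y = (c.ρ ⟨0⟩).ρ (piR o q) → ∀ g : G,
    coH.coact (q • g) = TensorProduct.map₂ (Algebra.lsmul k k G).toLinearMap (LinearMap.mul k c.H.O) y (coH.coact g)

attribute [instance] GrN.agL GrN.kL GrN.qL GrN.agG GrN.kG GrN.qG GrN.tG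

theorem pure_of_grN (e : ESide o s) (hs : Glued o s) (r : e.E.O →ₗ[k] c.H.O) (hr : ∀ z, r (e.ι z) = z) (n : ℤ)
    (m : ℕ) (g : GrN e n m) : Nonempty (Pure c e.ι (piR o) (grS e.Tot (stabW (gfacts_of_glued hs) e n m)
      (stabW (gfacts_of_glued hs) e n (m + 1)) (Submodule.map_mono (WF_succ n m)))) :=
  pure_gr c e.ι (piR o) r hr e.Tot _ _ _ (o.iD.surjective.comp o.X.π_surj) (ha_Tot e n m) (hb_Tot e hs n m) g.v g.hv
    g.hv' g.vq g.p g.hp g.pq g.hpk g.coH g.compat g.hopf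

/-- the remaining statement -/
def StmtGrN : Prop := ∀ (p : ℕ) (k : Type u) [CommRing k] [IsLb p k] (A : NFᵒᵖ ⥤ CommRingCat.{u}) [GRF k A]
  (x : PrimeSpectrum (A.obj (op ⟨0⟩))) (c : CoverDatum k A x) (o : ALGOut c) (s : Desc A o.X.K), Glued o s →
  ∀ (e : ESide o s) (n : ℤ) (m : ℕ), Nonempty (GrN e n m)

/-- **the assembly** -/
theorem stmtAsm_of (h : StmtGrN.{u}) : StmtAsm.{u} := by
  intro p k _ hk A _ x c o s hs e
  haveI := hk.dom
  haveI := hk.char0
  obtain ⟨r, hr⟩ := K787.Adm.exists_linear_retr e.adm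
  refine asm_of_small (gfacts_of_glued hs) e fun n => small_KK (gfacts_of_glued hs) n fun m _ => ?_
  obtain ⟨g⟩ := h p k A x c o s hs e n m
  exact Small.pure _ (pure_of_grN e hs r (fun z => congr($hr z)) n m g)

end Groth.Agent.ResProp.EF.K774

end
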