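import Groth.Agent.ResProp.EF.K686.Pure
import Groth.Agent.ResProp.EF.K918.SObjE

/-!
# `Arch.Pure` from the chart (node AD4 (3))

`pure_ofChart`: an `SObj` `X` with a `D⟨0⟩`-module structure on `X.M⟨0⟩`, semilinear for the two vertex maps of level `⟨1⟩`,
with `P` acting through `π : P → D⟨0⟩` and `E` acting through an `H`-coaction on `X.M⟨0⟩` (a Hopf module over `c.ρ ⟨0⟩`),
is pure.
-/

set_option autoImplicit false
set_option linter.style.haveILetI false
set_option linter.dupNamespace false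

open CategoryTheory Opposite TensorProduct

noncomputable section

namespace Groth.Agent.ResProp.EF.K774

open K784.BC K784.PM EF56 K985 Arch Grp K741.RP K686

universe u

variable {k : Type u} [CommRing k] {A : NFᵒᵖ ⥤ CommRingCat.{u}} [GRF k A]

section Lin

variable {a b : NF} {O : Type u} [CommRing O] [Algebra k O]

theorem map₂_smul_left {Y : AffOver A} {M : PM.{u} A} (B : Y.D.obj (op a) →ₗ[k] M.obj a →ₗ[k] M.obj a)
    (hB : ∀ (r : A.obj (op a)) d m, B (r • d) m = r • B d m) (r : A.obj (op a)) (w : Y.D.obj (op a) ⊗[k] O)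
    (n : M.obj a ⊗[k] O) :
    TensorProduct.map₂ B (LinearMap.mul k O) ((algebraMap (A.obj (op a)) (Y.D.obj (op a)) r ⊗ₜ[k] (1 : O)) * w) n =
      r • TensorProduct.map₂ B (LinearMap.mul k O) w n := by
  induction w using TensorProduct.induction_on with
  | zero => rw [mul_zero, map_zero, LinearMap.zero_apply, smul_zero]
  | tmul d h =>
    induction n using TensorProduct.induction_on with
    | zero => rw [map_zero, map_zero, smul_zero]
    | tmul m h' =>
      rw [Algebra.TensorProduct.tmul_mul_tmul, one_mul, TensorProduct.map₂_apply_tmul, TensorProduct.map₂_apply_tmul,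
        TensorProduct.map_tmul, TensorProduct.map_tmul, TensorProduct.smul_tmul', ← hB, Algebra.smul_def]
    | add s t hs ht => rw [map_add, map_add, hs, ht, smul_add]
  | add s t hs ht => rw [mul_add, map_add, LinearMap.add_apply, hs, ht, map_add, LinearMap.add_apply, smul_add]

theorem map₂_smul_right {Y : AffOver A} {M : PM.{u} A} (B : Y.D.obj (op a) →ₗ[k] M.obj a →ₗ[k] M.obj a)
    (hB : ∀ (r : A.obj (op a)) d m, B d (r • m) = r • B d m) (r : A.obj (op a)) (w : Y.D.obj (op a) ⊗[k] O)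
    (n : M.obj a ⊗[k] O) :
    TensorProduct.map₂ B (LinearMap.mul k O) w (r • n) = r • TensorProduct.map₂ B (LinearMap.mul k O) w n := by
  induction w using TensorProduct.induction_on with
  | zero => rw [map_zero, LinearMap.zero_apply, LinearMap.zero_apply, smul_zero]
  | tmul d h =>
    induction n using TensorProduct.induction_on with
    | zero => rw [smul_zero, map_zero, smul_zero]
    | tmul m h' =>
      rw [TensorProduct.smul_tmul', TensorProduct.map₂_apply_tmul, TensorProduct.map_tmul, TensorProduct.map_tmul, hB,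
        TensorProduct.smul_tmul']
    | add s t hs ht => rw [smul_add, map_add, hs, ht, map_add, smul_add]
  | add s t hs ht => rw [map_add, LinearMap.add_apply, hs, ht, LinearMap.add_apply, smul_add]

/-- naturality of `map₂`. -/
theorem map₂_nat {D D' N N' : Type u} [AddCommGroup D] [Module k D] [AddCommGroup D'] [Module k D']
    [AddCommGroup N] [Module k N] [AddCommGroup N'] [Module k N'] (B : D →ₗ[k] N →ₗ[k] N) (B' : D' →ₗ[k] N' →ₗ[k] N')
    (f : D →ₗ[k] D') (g : N →ₗ[k] N') (h : ∀ d n, g (B d n) = B' (f d) (g n)) (w : D ⊗[k] O) (n : N ⊗[k] O) :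
    g.rTensor O (TensorProduct.map₂ B (LinearMap.mul k O) w n) =
      TensorProduct.map₂ B' (LinearMap.mul k O) (f.rTensor O w) (g.rTensor O n) := by
  induction w using TensorProduct.induction_on with
  | zero => simp
  | tmul d o =>
    induction n using TensorProduct.induction_on with
    | zero => simp
    | tmul m o' =>
      rw [TensorProduct.map₂_apply_tmul, TensorProduct.map_tmul, LinearMap.rTensor_tmul, LinearMap.rTensor_tmul,
        LinearMap.rTensor_tmul, TensorProduct.map₂_apply_tmul, TensorProduct.map_tmul, h]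
    | add s t hs ht => rw [map_add, map_add, hs, ht, map_add, map_add]
  | add s t hs ht =>
    rw [map_add, LinearMap.add_apply, map_add, hs, ht, map_add, map_add, LinearMap.add_apply]

end Lin

variable {x : PrimeSpectrum (A.obj (op ⟨0⟩))} (c : CoverDatum k A x) {E : Gp k} (ι : c.H.O →ₐc[k] E.O)
  {P : Type u} [CommRing P] [Algebra (A.obj (op ⟨0⟩)) P] (π : P →ₐ[A.obj (op ⟨0⟩)] c.Y.D.obj (op ⟨0⟩))
  (X : SObj k A E P)

/-- the `H`-coactions on all levels through which `E` acts. -/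
theorem through_all (eH : ECo c.H X.M)
    (h : ∀ m : X.M.obj ⟨0⟩, (X.e.co ⟨0⟩).coact m =
      (ι : c.H.O →ₐ[k] E.O).toLinearMap.lTensor (X.M.obj ⟨0⟩) ((eH.co ⟨0⟩).coact m)) (a : NF) (m : X.M.obj a) :
    (X.e.co a).coact m = (ι : c.H.O →ₐ[k] E.O).toLinearMap.lTensor (X.M.obj a) ((eH.co a).coact m) := by
  refine K918.SObj.semi_eq X.cart (𝟙 a) (0 : Fin (a.n + 1)) (f := (X.e.co a).coact.toAddMonoidHom)
    (g := ((ι : c.H.O →ₐ[k] E.O).toLinearMap.lTensor (X.M.obj a) ∘ₗ (eH.co a).coact).toAddMonoidHom)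
    (fun r m => ?_) (fun r m => ?_) (fun m => ?_) m
  · rw [rg_id]
    change (X.e.co a).coact (r • m) = r • (X.e.co a).coact m
    rw [X.e.lin, K918.SObj.mulk_rTensor]
  · rw [rg_id]
    change (ι : c.H.O →ₐ[k] E.O).toLinearMap.lTensor (X.M.obj a) ((eH.co a).coact (r • m)) =
      r • (ι : c.H.O →ₐ[k] E.O).toLinearMap.lTensor (X.M.obj a) ((eH.co a).coact m)
    rw [eH.lin, K918.SObj.mulk_rTensor, K918.SObj.lTensor_smul']
  · change (X.e.co a).coact (X.M.map (pt a 0) m) =
      (ι : c.H.O →ₐ[k] E.O).toLinearMap.lTensor (X.M.obj a) ((eH.co a).coact (X.M.map (pt a 0) m))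
    rw [X.e.nat, eH.nat, h]
    change ((mapk (k := k) X.M (pt a 0)).rTensor E.O ∘ₗ (ι : c.H.O →ₐ[k] E.O).toLinearMap.lTensor (X.M.obj ⟨0⟩))
      ((eH.co ⟨0⟩).coact m) = ((ι : c.H.O →ₐ[k] E.O).toLinearMap.lTensor (X.M.obj a) ∘ₗ
        (mapk (k := k) X.M (pt a 0)).rTensor c.H.O) ((eH.co ⟨0⟩).coact m)
    rw [LinearMap.rTensor_comp_lTensor, LinearMap.lTensor_comp_rTensor]

section Main

variable [Module (c.Y.D.obj (op ⟨0⟩)) (X.M.obj ⟨0⟩)] [IsScalarTower k (c.Y.D.obj (op ⟨0⟩)) (X.M.obj ⟨0⟩)]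

/-- **an object is pure if it is so on the chart** -/
theorem pure_ofChart
    (tow : ∀ (r : A.obj (op ⟨0⟩)) (m : X.M.obj ⟨0⟩),
      algebraMap (A.obj (op ⟨0⟩)) (c.Y.D.obj (op ⟨0⟩)) r • m = r • m)
    (act : ∀ (q : P) (m : X.M.obj ⟨0⟩), q • m = π q • m)
    (a1 : c.Y.D.obj (op ⟨1⟩) →ₗ[A.obj (op ⟨1⟩)] (X.M.obj ⟨1⟩ →ₗ[A.obj (op ⟨1⟩)] X.M.obj ⟨1⟩))
    (h0 : ∀ (d : c.Y.D.obj (op ⟨0⟩)) (m : X.M.obj ⟨0⟩),
      a1 (rg c.Y.D (p1 (n := 1) 0) d) (X.M.map (p1 (n := 1) 0) m) = X.M.map (p1 (n := 1) 0) (d • m))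
    (h1 : ∀ (d : c.Y.D.obj (op ⟨0⟩)) (m : X.M.obj ⟨0⟩),
      a1 (rg c.Y.D (p1 (n := 1) 1) d) (X.M.map (p1 (n := 1) 1) m) = X.M.map (p1 (n := 1) 1) (d • m))
    (coH : HopfRep.Comod k c.H.O (X.M.obj ⟨0⟩))
    (lin : ∀ (r : A.obj (op ⟨0⟩)) (m : X.M.obj ⟨0⟩), coH.coact (r • m) = r • coH.coact m)
    (lev : K918.SObj.Lev1 X.M coH.coact)
    (thr : ∀ m : X.M.obj ⟨0⟩, (X.e.co ⟨0⟩).coact m =
      (ι : c.H.O →ₐ[k] E.O).toLinearMap.lTensor (X.M.obj ⟨0⟩) (coH.coact m))
    (hopf : K83.IsHopfMod (c.ρ ⟨0⟩) (X.M.obj ⟨0⟩) coH) : Nonempty (Pure c ι π X) := by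
  obtain ⟨α, hα⟩ := exists_dAct c.Y X.M X.cart tow a1 h0 h1
  let eH : ECo c.H X.M := K918.SObj.ECo.ofChart X.cart coH lin lev
  have e0 : ∀ m : X.M.obj ⟨0⟩, (eH.co ⟨0⟩).coact m = coH.coact m := fun m => by
    have e : (eH.co ⟨0⟩).coact (X.M.map (pt ⟨0⟩ 0) m) = (mapk (k := k) X.M (pt ⟨0⟩ 0)).rTensor c.H.O (coH.coact m) :=
      K918.SObj.coA_spec X.cart lin ⟨0⟩ m
    have h2 : (pt ⟨0⟩ 0 : (⟨0⟩ : NF) ⟶ ⟨0⟩) = 𝟙 _ := by
      funext i
      exact Subsingleton.elim (α := Fin 1) _ _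
    rw [h2, X.M.map_id] at e
    have h3 : mapk (k := k) X.M (𝟙 (⟨0⟩ : NF)) = LinearMap.id := LinearMap.ext fun m => X.M.map_id _ m
    rw [h3, LinearMap.rTensor_id, LinearMap.id_apply] at e
    exact e
  have hthr := through_all c ι X eH (fun m => by rw [thr, e0])
  -- the Hopf module formula on all levels
  have key : ∀ (a : NF) (B : c.Y.D.obj (op a) →ₗ[k] X.M.obj a →ₗ[k] X.M.obj a) (_ : ∀ d m, B d m = α.Φ a d m)
      (d : c.Y.D.obj (op a)) (m : X.M.obj a), (eH.co a).coact (α.Φ a d m) =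
        TensorProduct.map₂ B (LinearMap.mul k c.H.O) ((c.ρ a).ρ d) ((eH.co a).coact m) := by
    intro a B hB d m
    have hB1 : ∀ (r : A.obj (op a)) d m, B (r • d) m = r • B d m := fun r d m => by
      rw [hB, hB, map_smul, LinearMap.smul_apply]
    have hB2 : ∀ (r : A.obj (op a)) d m, B d (r • m) = r • B d m := fun r d m => by
      rw [hB, hB, map_smul]
    let F : c.Y.D.obj (op a) →+ (X.M.obj a →+ X.M.obj a ⊗[k] c.H.O) := AddMonoidHom.mk' (fun x =>
      AddMonoidHom.mk' (fun y => (eH.co a).coact (α.Φ a x y)) (fun y y' => by rw [map_add, map_add]))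
      (fun x x' => AddMonoidHom.ext fun y => by
        change (eH.co a).coact (α.Φ a (x + x') y) = (eH.co a).coact (α.Φ a x y) + (eH.co a).coact (α.Φ a x' y)
        rw [map_add, LinearMap.add_apply, map_add])
    let G : c.Y.D.obj (op a) →+ (X.M.obj a →+ X.M.obj a ⊗[k] c.H.O) := AddMonoidHom.mk' (fun x =>
      AddMonoidHom.mk' (fun y => TensorProduct.map₂ B (LinearMap.mul k c.H.O) ((c.ρ a).ρ x) ((eH.co a).coact y))
        (fun y y' => by rw [map_add, map_add]))
      (fun x x' => AddMonoidHom.ext fun y => by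
        change TensorProduct.map₂ B (LinearMap.mul k c.H.O) ((c.ρ a).ρ (x + x')) ((eH.co a).coact y) =
          TensorProduct.map₂ B (LinearMap.mul k c.H.O) ((c.ρ a).ρ x) ((eH.co a).coact y) +
            TensorProduct.map₂ B (LinearMap.mul k c.H.O) ((c.ρ a).ρ x') ((eH.co a).coact y)
        rw [map_add, map_add, LinearMap.add_apply])
    refine bi_ext (Y := c.Y) X.cart (𝟙 a) (ψ := pt a 0) F G (fun r x y => ?_) (fun r x y => ?_) (fun r x y => ?_)
      (fun r x y => ?_) (fun x y => ?_) d m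
    · rw [rg_id]
      change (eH.co a).coact (α.Φ a (r • x) y) = r • (eH.co a).coact (α.Φ a x y)
      rw [map_smul, LinearMap.smul_apply, eH.lin, K918.SObj.mulk_rTensor]
    · rw [rg_id]
      change (eH.co a).coact (α.Φ a x (r • y)) = r • (eH.co a).coact (α.Φ a x y)
      rw [map_smul, eH.lin, K918.SObj.mulk_rTensor]
    · rw [rg_id]
      change TensorProduct.map₂ B (LinearMap.mul k c.H.O) ((c.ρ a).ρ (r • x)) ((eH.co a).coact y) =
        r • TensorProduct.map₂ B (LinearMap.mul k c.H.O) ((c.ρ a).ρ x) ((eH.co a).coact y)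
      rw [Algebra.smul_def, map_mul, c.ρ_lin, map₂_smul_left B hB1]
    · rw [rg_id]
      change TensorProduct.map₂ B (LinearMap.mul k c.H.O) ((c.ρ a).ρ x) ((eH.co a).coact (r • y)) =
        r • TensorProduct.map₂ B (LinearMap.mul k c.H.O) ((c.ρ a).ρ x) ((eH.co a).coact y)
      rw [eH.lin, K918.SObj.mulk_rTensor, map₂_smul_right B hB2]
    · change (eH.co a).coact (α.Φ a (rg c.Y.D (pt a 0) x) (X.M.map (pt a 0) y)) =
        TensorProduct.map₂ B (LinearMap.mul k c.H.O) ((c.ρ a).ρ (rg c.Y.D (pt a 0) x))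
          ((eH.co a).coact (X.M.map (pt a 0) y))
      rw [← α.map_Φ, eH.nat, hα, e0, hopf.smul, c.ρ_nat, eH.nat, e0]
      exact map₂_nat _ B (c.Y.rk (k := k) (pt a 0)).toLinearMap (mapk (k := k) X.M (pt a 0)) (fun d n => by
        rw [hB]
        exact (congrArg (X.M.map (pt a 0)) (hα d n).symm).trans (α.map_Φ (pt a 0) d n)) _ _
  refine ⟨{
    md := fun a =>
      { smul := fun d m => α.Φ a d m
        one_smul := α.one a
        mul_smul := α.mul a
        smul_zero := fun d => map_zero _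
        smul_add := fun d m n => map_add _ _ _
        add_smul := fun d d' m => by
          change α.Φ a (d + d') m = α.Φ a d m + α.Φ a d' m
          rw [map_add, LinearMap.add_apply]
        zero_smul := fun m => by
          change α.Φ a 0 m = 0
          rw [map_zero, LinearMap.zero_apply] }
    tower := fun a r m => by
      change α.Φ a (algebraMap (A.obj (op a)) (c.Y.D.obj (op a)) r) m = r • m
      rw [Algebra.algebraMap_eq_smul_one, map_smul, LinearMap.smul_apply, α.one]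
    map_smul := fun φ d m => α.map_Φ φ d m
    act := fun q m => by
      change q • m = α.Φ ⟨0⟩ (π q) m
      rw [hα, act]
    coH := eH.co
    through := hthr
    hopf := fun a d m => key a _ (fun d m => rfl) d m }⟩

end Main

end Groth.Agent.ResProp.EF.K774

end
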