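import Groth.Agent.ResProp.EF.K774.Pure
import Groth.Agent.ResProp.EF.K959.SObj
import Groth.Agent.ResProp.EF.K980.Alg

/-!
# `Arch.Pure` for objects given by descent data (`K959.EDesc`)

* `lin_of_through`, `lev_of_through`: a `k`-linear retraction of `ι : O(H) → O(E)` makes the linearity and the
  compatibility with `Γ` of the `H`-coaction automatic.
* `pure_ofEDesc`: `X : EDesc`, `X.K` a `D`-module, `P` through `π`, `E` through an `H`-coaction (a Hopf module), `σ` semilinear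
  over `η : BC (vx 0) D → BC (vx 1) D` (the descent datum of `D`): `X.sobj` is pure.
-/

set_option autoImplicit false
set_option linter.style.haveILetI false
set_option linter.dupNamespace false

open CategoryTheory Opposite TensorProduct

noncomputable section

namespace Groth.Agent.ResProp.EF.K774

open K784.BC K784.PM EF56 K985 Arch Grp K741.RP K686 K980 K980.BC K959 K959.CoBC

universe u

variable {k : Type u} [CommRing k] {A : NFᵒᵖ ⥤ CommRingCat.{u}} [GRF k A]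

section Retr

variable {x : PrimeSpectrum (A.obj (op ⟨0⟩))} (c : CoverDatum k A x) {E : Gp k} (ι : c.H.O →ₐc[k] E.O)
  {P : Type u} [CommRing P] [Algebra (A.obj (op ⟨0⟩)) P] (X : SObj k A E P)
  (r : E.O →ₗ[k] c.H.O) (hr : ∀ z, r (ι z) = z)

include hr in
theorem retr_lTensor {V : Type u} [AddCommGroup V] [Module k V] (w : V ⊗[k] c.H.O) :
    r.lTensor V ((ι : c.H.O →ₐ[k] E.O).toLinearMap.lTensor V w) = w := by
  rw [← LinearMap.lTensor_comp_apply]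
  have : r ∘ₗ (ι : c.H.O →ₐ[k] E.O).toLinearMap = LinearMap.id := LinearMap.ext hr
  rw [this, LinearMap.lTensor_id]
  rfl

include hr in
theorem lin_of_through (coH : HopfRep.Comod k c.H.O (X.M.obj ⟨0⟩))
    (thr : ∀ m : X.M.obj ⟨0⟩, (X.e.co ⟨0⟩).coact m =
      (ι : c.H.O →ₐ[k] E.O).toLinearMap.lTensor (X.M.obj ⟨0⟩) (coH.coact m))
    (s : A.obj (op ⟨0⟩)) (m : X.M.obj ⟨0⟩) : coH.coact (s • m) = s • coH.coact m := by
  have h1 := congrArg (r.lTensor (X.M.obj ⟨0⟩)) (thr (s • m))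
  rw [retr_lTensor c ι r hr, X.e.lin, K918.SObj.mulk_rTensor, thr, ← K918.SObj.lTensor_smul',
    retr_lTensor c ι r hr] at h1
  exact h1.symm

include hr in
theorem lev_of_through (coH : HopfRep.Comod k c.H.O (X.M.obj ⟨0⟩))
    (thr : ∀ m : X.M.obj ⟨0⟩, (X.e.co ⟨0⟩).coact m =
      (ι : c.H.O →ₐ[k] E.O).toLinearMap.lTensor (X.M.obj ⟨0⟩) (coH.coact m)) :
    K918.SObj.Lev1 X.M coH.coact := by
  have hl : ∀ (s : A.obj (op ⟨1⟩)) (z : X.M.obj ⟨1⟩), r.lTensor (X.M.obj ⟨1⟩) ((X.e.co ⟨1⟩).coact (s • z)) =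
      s • r.lTensor (X.M.obj ⟨1⟩) ((X.e.co ⟨1⟩).coact z) := fun s z => by
    rw [X.e.lin, K918.SObj.mulk_rTensor, K918.SObj.lTensor_smul']
  have key : ∀ (i : Fin 2) (m : X.M.obj ⟨0⟩), r.lTensor (X.M.obj ⟨1⟩) ((X.e.co ⟨1⟩).coact (X.M.map (p1 (n := 1) i) m)) =
      (mapk (k := k) X.M (p1 (n := 1) i)).rTensor c.H.O (coH.coact m) := fun i m => by
    rw [X.e.nat, thr]
    change (r.lTensor (X.M.obj ⟨1⟩) ∘ₗ (mapk (k := k) X.M (p1 (n := 1) i)).rTensor E.O) _ = _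
    rw [LinearMap.lTensor_comp_rTensor, ← LinearMap.rTensor_comp_lTensor, LinearMap.comp_apply,
      retr_lTensor c ι r hr]
  exact ⟨{ toFun := fun z => r.lTensor (X.M.obj ⟨1⟩) ((X.e.co ⟨1⟩).coact z)
           map_add' := fun a b => by rw [map_add, map_add]
           map_smul' := hl }, key 0, key 1⟩

end Retr

section Edge

/-- `D⟨0⟩` base changed to the vertex `i` of `a` is `D⟨a⟩`. -/
def eps (Y : AffOver A) (a : NF) (i : Fin (a.n + 1)) :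
    BC (vx A a i) (Y.D.obj (op ⟨0⟩)) →ₗ[A.obj (op a)] Y.D.obj (op a) :=
  BC.lift (σ := RingHom.id _) (τ := vx A a i) (RingHom.id_comp _)
    { toFun := fun d => rg Y.D (pt a i) d
      map_add' := fun d d' => map_add _ d d'
      map_smul' := fun r d => rgD_smul Y (pt a i) r d }

@[simp] theorem eps_bc (Y : AffOver A) (a : NF) (i : Fin (a.n + 1)) (d : Y.D.obj (op ⟨0⟩)) :
    eps Y a i (bc (vx A a i) d) = rg Y.D (pt a i) d := lift_bc _ _ d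

theorem eps_bijective (Y : AffOver A) (a : NF) (i : Fin (a.n + 1)) : Function.Bijective (eps Y a i) :=
  (isBC_bc (vx A a i) (Y.D.obj (op ⟨0⟩))).bijective_of_isBC (bcD Y (pt a i)) (eps Y a i) fun d => eps_bc Y a i d

theorem edge_01 : edge ⟨1⟩ 0 1 = 𝟙 (⟨1⟩ : NF) := by
  funext i
  change (![0, 1] : Fin 2 → Fin 2) i = i
  fin_cases i <;> rfl

/-- over the edge itself the transport is `σ`. -/
theorem tp_01 {K : Type u} [AddCommGroup K] [Module (A.obj (op ⟨0⟩)) K] (s : Desc A K) : s.tp ⟨1⟩ 0 1 = s.σ := by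
  have h : ∀ (ψ : (⟨1⟩ : NF) ⟶ ⟨1⟩) (_ : ψ = 𝟙 _) (h0 : (rg A ψ).comp (vx A ⟨1⟩ 0) = vx A ⟨1⟩ 0)
      (h1 : (rg A ψ).comp (vx A ⟨1⟩ 1) = vx A ⟨1⟩ 1), pullE (rg A ψ) h0 h1 s.σ = s.σ := by
    intro ψ hψ
    rw [hψ, rg_id]
    intro h0 h1
    exact pullE_idRing _ _ _
  exact h (edge ⟨1⟩ 0 1) edge_01 _ _

end Edge

section Main

variable {x : PrimeSpectrum (A.obj (op ⟨0⟩))} (c : CoverDatum k A x) {E : Gp k} (ι : c.H.O →ₐc[k] E.O)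
  {P : Type u} [CommRing P] [Algebra (A.obj (op ⟨0⟩)) P] (π : P →ₐ[A.obj (op ⟨0⟩)] c.Y.D.obj (op ⟨0⟩))
  (X : EDesc k A E P)
  (r : E.O →ₗ[k] c.H.O) (hr : ∀ z, r (ι z) = z)

variable [Module (c.Y.D.obj (op ⟨0⟩)) X.K] [IsScalarTower (A.obj (op ⟨0⟩)) (c.Y.D.obj (op ⟨0⟩)) X.K]

omit [Module (c.Y.D.obj (op ⟨0⟩)) X.K] [IsScalarTower (A.obj (op ⟨0⟩)) (c.Y.D.obj (op ⟨0⟩)) X.K] in
include hr in
theorem lin_of_throughE (coH : HopfRep.Comod k c.H.O X.K)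
    (thr : ∀ m : X.K, X.c.coact m = (ι : c.H.O →ₐ[k] E.O).toLinearMap.lTensor X.K (coH.coact m))
    (s : A.obj (op ⟨0⟩)) (m : X.K) : coH.coact (s • m) = (mul k X.K s).rTensor c.H.O (coH.coact m) := by
  have h1 := congrArg (r.lTensor X.K) (thr (s • m))
  rw [retr_lTensor c ι r hr, X.lin, thr] at h1
  rw [← h1]
  change (r.lTensor X.K ∘ₗ (mul k X.K s).rTensor E.O) _ = _
  rw [LinearMap.lTensor_comp_rTensor, ← LinearMap.rTensor_comp_lTensor, LinearMap.comp_apply,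
      retr_lTensor c ι r hr]

include hr in
/-- **descent data which are pure on the chart give pure objects** -/
theorem pure_ofEDesc
    (act : ∀ (q : P) (m : X.K), q • m = π q • m)
    (η : BC (vx A ⟨1⟩ 0) (c.Y.D.obj (op ⟨0⟩)) → BC (vx A ⟨1⟩ 1) (c.Y.D.obj (op ⟨0⟩)))
    (hη : ∀ d, eps c.Y ⟨1⟩ 1 (η d) = eps c.Y ⟨1⟩ 0 d)
    (sem : ∀ (d : BC (vx A ⟨1⟩ 0) (c.Y.D.obj (op ⟨0⟩))) (v : BC (vx A ⟨1⟩ 0) X.K),
      X.s.σ (BC.bil (vx A ⟨1⟩ 0) (smulR (A.obj (op ⟨0⟩)) (c.Y.D.obj (op ⟨0⟩)) X.K) d v) =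
        BC.bil (vx A ⟨1⟩ 1) (smulR (A.obj (op ⟨0⟩)) (c.Y.D.obj (op ⟨0⟩)) X.K) (η d) (X.s.σ v))
    (coH : HopfRep.Comod k c.H.O X.K)
    (thr : ∀ m : X.K, X.c.coact m = (ι : c.H.O →ₐ[k] E.O).toLinearMap.lTensor X.K (coH.coact m))
    (hopf : ∀ (d : c.Y.D.obj (op ⟨0⟩)) (m : X.K), coH.coact (d • m) = TensorProduct.map₂
      ((smulR (A.obj (op ⟨0⟩)) (c.Y.D.obj (op ⟨0⟩)) X.K).restrictScalars₁₂ k k) (LinearMap.mul k c.H.O)
        ((c.ρ ⟨0⟩).ρ d) (coH.coact m)) :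
    Nonempty (Pure c ι π X.sobj) := by
  let b0 : X.K →ₗ[k] X.sobj.M.obj ⟨0⟩ := (toK (hk A k ⟨0⟩ 0)
    (bc (vx A ⟨0⟩ 0) : X.K →ₛₗ[vx A ⟨0⟩ 0] BC (vx A ⟨0⟩ 0) X.K) : X.K →ₗ[k] BC (vx A ⟨0⟩ 0) X.K)
  letI mD : Module (c.Y.D.obj (op ⟨0⟩)) (X.sobj.M.obj ⟨0⟩) := modP (vx A ⟨0⟩ 0) (c.Y.D.obj (op ⟨0⟩)) X.K
  have smD : ∀ (d : c.Y.D.obj (op ⟨0⟩)) (m : X.K), d • b0 m = b0 (d • m) := fun d m => by
    change BC.map (vx A ⟨0⟩ 0) (lP (c.Y.D.obj (op ⟨0⟩)) X.K d) (bc (vx A ⟨0⟩ 0) m) = _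
    rw [map_bc]
    rfl
  have tow : ∀ (s : A.obj (op ⟨0⟩)) (z : X.sobj.M.obj ⟨0⟩),
      algebraMap (A.obj (op ⟨0⟩)) (c.Y.D.obj (op ⟨0⟩)) s • z = s • z := fun s z => by
    change BC.map (vx A ⟨0⟩ 0) (lP (c.Y.D.obj (op ⟨0⟩)) X.K _) z = _
    have h1 : lP (R := A.obj (op ⟨0⟩)) (c.Y.D.obj (op ⟨0⟩)) X.K
        (algebraMap (A.obj (op ⟨0⟩)) (c.Y.D.obj (op ⟨0⟩)) s) = s • LinearMap.id := by
      ext m
      simp
    rw [h1, BC.map_smul', EDesc.vx_zero, BC.map_id]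
    rfl
  haveI : IsScalarTower k (c.Y.D.obj (op ⟨0⟩)) (X.sobj.M.obj ⟨0⟩) := ⟨fun s d z => by
    rw [Algebra.smul_def, mul_smul]
    exact tow (algebraMap k (A.obj (op ⟨0⟩)) s) _⟩
  have sur : ∀ z : X.sobj.M.obj ⟨0⟩, ∃ m : X.K, b0 m = z := fun z => X.bc_bijective.2 z
  let εe := LinearEquiv.ofBijective (eps c.Y ⟨1⟩ 0) (eps_bijective c.Y ⟨1⟩ 0)
  have linK := lin_of_throughE c ι X r hr coH thr
  let coH' : HopfRep.Comod k c.H.O (X.sobj.M.obj ⟨0⟩) :=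
    (comodB (hk A k ⟨0⟩ 0) coH linK : HopfRep.Comod k c.H.O (BC (vx A ⟨0⟩ 0) X.K))
  have coH'_bc : ∀ m : X.K, coH'.coact (b0 m) = b0.rTensor c.H.O (coH.coact m) :=
    fun m => coB_bc (hk A k ⟨0⟩ 0) coH.coact linK m
  have thr' : ∀ z : X.sobj.M.obj ⟨0⟩, (X.sobj.e.co ⟨0⟩).coact z =
      (ι : c.H.O →ₐ[k] E.O).toLinearMap.lTensor (X.sobj.M.obj ⟨0⟩) (coH'.coact z) := fun z => by
    obtain ⟨m, rfl⟩ := sur z
    rw [coH'_bc]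
    refine (X.coact_bc m).trans ?_
    rw [thr]
    change (b0.rTensor E.O ∘ₗ (ι : c.H.O →ₐ[k] E.O).toLinearMap.lTensor X.K) (coH.coact m) =
        ((ι : c.H.O →ₐ[k] E.O).toLinearMap.lTensor (X.sobj.M.obj ⟨0⟩) ∘ₗ b0.rTensor c.H.O) (coH.coact m)
    rw [LinearMap.rTensor_comp_lTensor, LinearMap.lTensor_comp_rTensor]
  refine pure_ofChart c ι π X.sobj tow (fun q z => ?_)
    ((BC.bil (vx A ⟨1⟩ 0) (smulR (A.obj (op ⟨0⟩)) (c.Y.D.obj (op ⟨0⟩)) X.K)).comp εe.symm.toLinearMap)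
    (fun d z => ?_) (fun d z => ?_) coH' (lin_of_through c ι X.sobj r hr coH' thr')
    (lev_of_through c ι X.sobj r hr coH' thr') thr' ⟨fun d z => ?_⟩
  · obtain ⟨m, rfl⟩ := sur z
    rw [smD, ← act]
    exact X.smul_bc q m
  · obtain ⟨m, rfl⟩ := sur z
    rw [smD]
    change BC.bil (vx A ⟨1⟩ 0) (smulR (A.obj (op ⟨0⟩)) (c.Y.D.obj (op ⟨0⟩)) X.K) (εe.symm (rg c.Y.D (pt ⟨1⟩ 0) d))
      (X.sobj.M.map (pt ⟨1⟩ 0) (bc (vx A ⟨0⟩ 0) m)) = X.sobj.M.map (pt ⟨1⟩ 0) (bc (vx A ⟨0⟩ 0) (d • m))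
    have e1 : εe.symm (rg c.Y.D (pt ⟨1⟩ 0) d) = bc (vx A ⟨1⟩ 0) d := by
      rw [LinearEquiv.symm_apply_eq]
      exact (eps_bc c.Y ⟨1⟩ 0 d).symm
    rw [e1, X.map_pt, X.map_pt, X.s.tp_self, X.s.tp_self, BC.bil_bc]
    rfl
  · obtain ⟨m, rfl⟩ := sur z
    rw [smD]
    change BC.bil (vx A ⟨1⟩ 0) (smulR (A.obj (op ⟨0⟩)) (c.Y.D.obj (op ⟨0⟩)) X.K) (εe.symm (rg c.Y.D (pt ⟨1⟩ 1) d))
      (X.sobj.M.map (pt ⟨1⟩ 1) (bc (vx A ⟨0⟩ 0) m)) = X.sobj.M.map (pt ⟨1⟩ 1) (bc (vx A ⟨0⟩ 0) (d • m))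
    rw [X.map_pt, X.map_pt]
    apply X.s.σ.injective
    have e1 : η (εe.symm (rg c.Y.D (pt ⟨1⟩ 1) d)) = bc (vx A ⟨1⟩ 1) d := by
      apply (eps_bijective c.Y ⟨1⟩ 1).1
      rw [hη, eps_bc]
      exact εe.apply_symm_apply _
    have e2 : ∀ w : BC (vx A ⟨1⟩ 1) X.K, X.s.σ (X.s.tp ⟨1⟩ 1 0 w) = w := fun w => by
      rw [← tp_01, X.s.tp_tp, X.s.tp_self]
    rw [sem, e1, e2, e2, BC.bil_bc]
    rfl
  · obtain ⟨m, rfl⟩ := sur z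
    rw [smD, coH'_bc, coH'_bc, hopf]
    refine (map₂_nat _ (Algebra.lsmul k k (X.sobj.M.obj ⟨0⟩)).toLinearMap LinearMap.id b0 (fun d n => ?_) _ _).trans ?_
    · exact (smD d n).symm
    · rw [LinearMap.rTensor_id]
      rfl

end Main

end Groth.Agent.ResProp.EF.K774

end
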