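import Groth.Agent.ResProp.EF.K774.PureE
import Groth.Agent.ResProp.EF.K303.Chain

/-!
# The graded pieces `W / W'` of an `SObj` are pure (AD4, T2)

* `modKer` : the `D`-module structure on a `P`-module killed by `ker (π : P → D)`.
* `actM X : BC (vx A ⟨1⟩ 0) P → End (X.M⟨1⟩)`, `toD1 : BC (vx A ⟨1⟩ 0) P → D⟨1⟩`.
* `pure_ofP` : purity of `Y : SObj` in terms of the `P`-action only.
* `pure_gr` : purity of `grS X h h' hle`.
-/

set_option autoImplicit false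
set_option linter.style.haveILetI false
set_option linter.dupNamespace false

open CategoryTheory Opposite TensorProduct

noncomputable section

namespace Groth.Agent.ResProp.EF.K774

open K784.BC K784.PM EF56 Arch Grp K741.RP K686 K980 K980.BC K959 K959.CoBC K276 K303

universe u

/-! ### `D`-modules as `P`-modules killed by the kernel -/

section ModKer

variable {R : Type u} [CommRing R] {P D : Type u} [CommRing P] [CommRing D] [Algebra R P] [Algebra R D]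
  {π : P →ₐ[R] D} (hπ : Function.Surjective π) {N : Type u} [AddCommGroup N] [Module P N]
  (hk : ∀ q : P, π q = 0 → ∀ n : N, q • n = 0)

include hk in
theorem smul_eq_of_ker {q q' : P} (h : π q = π q') (n : N) : q • n = q' • n := by
  have h1 := hk (q - q') (by rw [map_sub, h, sub_self]) n
  rw [sub_smul] at h1
  exact sub_eq_zero.1 h1

/-- the `D`-module structure -/
@[reducible] def modKer : Module D N where
  smul d n := Function.surjInv hπ d • n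
  one_smul n := by
    change Function.surjInv hπ 1 • n = n
    rw [smul_eq_of_ker hk ((Function.surjInv_eq hπ 1).trans (map_one π).symm), one_smul]
  mul_smul d d' n := by
    change Function.surjInv hπ (d * d') • n = Function.surjInv hπ d • Function.surjInv hπ d' • n
    rw [smul_smul]
    refine smul_eq_of_ker hk ?_ n
    rw [map_mul, Function.surjInv_eq hπ, Function.surjInv_eq hπ, Function.surjInv_eq hπ]
  smul_zero d := smul_zero _
  smul_add d n n' := smul_add _ n n'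
  add_smul d d' n := by
    change Function.surjInv hπ (d + d') • n = Function.surjInv hπ d • n + Function.surjInv hπ d' • n
    rw [← add_smul]
    refine smul_eq_of_ker hk ?_ n
    rw [map_add, Function.surjInv_eq hπ, Function.surjInv_eq hπ, Function.surjInv_eq hπ]
  zero_smul n := by
    change Function.surjInv hπ 0 • n = 0
    exact hk _ (Function.surjInv_eq hπ 0) n

theorem modKer_smul (q : P) (n : N) : (modKer hπ hk).smul (π q) n = q • n :=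
  smul_eq_of_ker hk (Function.surjInv_eq hπ (π q)) n

end ModKer

variable {k : Type u} [CommRing k] {A : NFᵒᵖ ⥤ CommRingCat.{u}} [GRF k A] {E : Gp k}
  {P : Type u} [CommRing P] [Algebra (A.obj (op ⟨0⟩)) P]

/-! ### the `P`-action on level `⟨1⟩` through the vertex `0` -/

section ActM

/-- multiplication by `q` on the chart -/
abbrev lsm (X : SObj k A E P) (q : P) : X.M.obj ⟨0⟩ →ₗ[A.obj (op ⟨0⟩)] X.M.obj ⟨0⟩ :=
  lP (R := A.obj (op ⟨0⟩)) P (X.M.obj ⟨0⟩) q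

/-- the action of `A⟨1⟩ ⊗_(vx 0) P` on `M⟨1⟩` -/
def actM (X : SObj k A E P) :
    BC (vx A ⟨1⟩ 0) P →ₗ[A.obj (op ⟨1⟩)] (X.M.obj ⟨1⟩ →ₗ[A.obj (op ⟨1⟩)] X.M.obj ⟨1⟩) :=
  BC.lift (σ := RingHom.id _) (τ := vx A ⟨1⟩ 0) (RingHom.id_comp _)
    { toFun := fun q => PM.pl X.cart (pt ⟨1⟩ 0) (lsm X q)
      map_add' := fun q q' => by
        have : lsm X (q + q') = lsm X q + lsm X q' := LinearMap.ext fun m => add_smul q q' m
        rw [this, map_add]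
      map_smul' := fun r q => by
        have : lsm X (r • q) = r • lsm X q := LinearMap.ext fun m => smul_assoc r q m
        rw [this, PM.pl_smul] }

theorem actM_bc (X : SObj k A E P) (q : P) : actM X (bc (vx A ⟨1⟩ 0) q) = PM.pl X.cart (pt ⟨1⟩ 0) (lsm X q) :=
  lift_bc _ _ q

theorem actM_bc_map (X : SObj k A E P) (q : P) (m : X.M.obj ⟨0⟩) :
    actM X (bc (vx A ⟨1⟩ 0) q) (X.M.map (pt ⟨1⟩ 0) m) = X.M.map (pt ⟨1⟩ 0) (q • m) := by
  rw [actM_bc, PM.pl_apply]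
  rfl

/-- naturality -/
theorem hom_actM {X X' : SObj k A E P} (f : X.Hom X') (y : BC (vx A ⟨1⟩ 0) P) (z : X.M.obj ⟨1⟩) :
    f.f ⟨1⟩ (actM X y z) = actM X' y (f.f ⟨1⟩ z) := by
  induction y using BC.ind with
  | h0 => rw [map_zero, map_zero, LinearMap.zero_apply, LinearMap.zero_apply, map_zero]
  | h1 r q =>
    rw [LinearMap.map_smul, LinearMap.map_smul, LinearMap.smul_apply, LinearMap.smul_apply, LinearMap.map_smul]
    congr 1
    have e : (f.f ⟨1⟩) ∘ₗ actM X (bc (vx A ⟨1⟩ 0) q) = actM X' (bc (vx A ⟨1⟩ 0) q) ∘ₗ f.f ⟨1⟩ :=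
      (X.cart (pt ⟨1⟩ 0)).hom_ext fun m => by
        rw [LinearMap.comp_apply, LinearMap.comp_apply, actM_bc_map, f.nat, f.nat, f.pl, actM_bc_map]
    exact congr($e z)
  | h2 a b ha hb =>
    rw [map_add, map_add, LinearMap.add_apply, LinearMap.add_apply, map_add, ha, hb]

/-- `A⟨1⟩ ⊗_(vx 0) P → D⟨1⟩` -/
def toD1 (Y : AffOver A) (π : P →ₐ[A.obj (op ⟨0⟩)] Y.D.obj (op ⟨0⟩)) :
    BC (vx A ⟨1⟩ 0) P →ₗ[A.obj (op ⟨1⟩)] Y.D.obj (op ⟨1⟩) := eps Y ⟨1⟩ 0 ∘ₗ BC.map (vx A ⟨1⟩ 0) π.toLinearMap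

theorem toD1_bc (Y : AffOver A) (π : P →ₐ[A.obj (op ⟨0⟩)] Y.D.obj (op ⟨0⟩)) (q : P) :
    toD1 Y π (bc (vx A ⟨1⟩ 0) q) = rg Y.D (pt ⟨1⟩ 0) (π q) := by
  rw [toD1, LinearMap.comp_apply, map_bc, eps_bc]
  rfl

theorem toD1_surjective (Y : AffOver A) (π : P →ₐ[A.obj (op ⟨0⟩)] Y.D.obj (op ⟨0⟩)) (hπ : Function.Surjective π) :
    Function.Surjective (toD1 Y π) :=
  (eps_bijective Y ⟨1⟩ 0).2.comp (BC.map_surjective (x := vx A ⟨1⟩ 0) (g := π.toLinearMap) hπ)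

end ActM

variable {x : PrimeSpectrum (A.obj (op ⟨0⟩))} (c : CoverDatum k A x) (ι : c.H.O →ₐc[k] E.O)
  (π : P →ₐ[A.obj (op ⟨0⟩)] c.Y.D.obj (op ⟨0⟩)) (r : E.O →ₗ[k] c.H.O) (hr : ∀ z, r (ι z) = z)

variable [Algebra k P] [IsScalarTower k (A.obj (op ⟨0⟩)) P]

omit E in
/-- `π`, `k`-linear -/
def πk : P →ₗ[k] c.Y.D.obj (op ⟨0⟩) := π.toLinearMap.restrictScalars k

include hr in
/-- **purity in terms of the `P`-action** -/
theorem pure_ofP (Y : SObj k A E P) [IsScalarTower k P (Y.M.obj ⟨0⟩)] (hπ : Function.Surjective π)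
    (hk : ∀ q, π q = 0 → ∀ m : Y.M.obj ⟨0⟩, q • m = 0)
    (hb : ∀ q : P, ∃ y : BC (vx A ⟨1⟩ 0) P, toD1 c.Y π y = rg c.Y.D (pt ⟨1⟩ 1) (π q) ∧
      ∀ m : Y.M.obj ⟨0⟩, actM Y y (Y.M.map (pt ⟨1⟩ 1) m) = Y.M.map (pt ⟨1⟩ 1) (q • m))
    (coH : HopfRep.Comod k c.H.O (Y.M.obj ⟨0⟩))
    (thr : ∀ m : Y.M.obj ⟨0⟩, (Y.e.co ⟨0⟩).coact m =
      (ι : c.H.O →ₐ[k] E.O).toLinearMap.lTensor (Y.M.obj ⟨0⟩) (coH.coact m))
    (hopf : ∀ (q : P) (y : P ⊗[k] c.H.O), (πk c π).rTensor c.H.O y = (c.ρ ⟨0⟩).ρ (π q) → ∀ m : Y.M.obj ⟨0⟩,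
      coH.coact (q • m) = TensorProduct.map₂ (Algebra.lsmul k k (Y.M.obj ⟨0⟩)).toLinearMap (LinearMap.mul k c.H.O) y
        (coH.coact m)) :
    Nonempty (Pure c ι π Y) := by
  letI mD : Module (c.Y.D.obj (op ⟨0⟩)) (Y.M.obj ⟨0⟩) := modKer hπ hk
  have sm : ∀ (q : P) (m : Y.M.obj ⟨0⟩), π q • m = q • m := fun q m => modKer_smul hπ hk q m
  have tow : ∀ (s : A.obj (op ⟨0⟩)) (m : Y.M.obj ⟨0⟩),
      algebraMap (A.obj (op ⟨0⟩)) (c.Y.D.obj (op ⟨0⟩)) s • m = s • m := fun s m => by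
    have h1 : algebraMap (A.obj (op ⟨0⟩)) (c.Y.D.obj (op ⟨0⟩)) s = π (algebraMap (A.obj (op ⟨0⟩)) P s) :=
      (π.commutes s).symm
    rw [h1, sm, algebraMap_smul]
  haveI : IsScalarTower k (c.Y.D.obj (op ⟨0⟩)) (Y.M.obj ⟨0⟩) := ⟨fun s d m => by
    rw [Algebra.smul_def, mul_smul]
    exact tow (algebraMap k (A.obj (op ⟨0⟩)) s) _⟩
  obtain ⟨Φ, hΦ⟩ := exists_Φ c.Y Y.M Y.cart tow ⟨1⟩
  have hΦ' : ∀ (d : c.Y.D.obj (op ⟨0⟩)) (m : Y.M.obj ⟨0⟩),
      Φ (rg c.Y.D (pt ⟨1⟩ 0) d) (Y.M.map (pt ⟨1⟩ 0) m) = Y.M.map (pt ⟨1⟩ 0) (d • m) := hΦ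
  have key : ∀ y : BC (vx A ⟨1⟩ 0) P, Φ (toD1 c.Y π y) = actM Y y := by
    intro y
    have e : Φ ∘ₗ toD1 c.Y π = actM Y := BC.hom_ext fun q => by
      refine (Y.cart (pt ⟨1⟩ 0)).hom_ext fun m => ?_
      rw [LinearMap.comp_apply, toD1_bc, hΦ', actM_bc_map, sm]
    exact congr($e y)
  refine pure_ofChart c ι π Y tow (fun q m => (sm q m).symm) Φ hΦ (fun d m => ?_) coH
    (lin_of_through c ι Y r hr coH thr) (lev_of_through c ι Y r hr coH thr) thr ⟨fun d m => ?_⟩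
  · obtain ⟨q, rfl⟩ := hπ d
    obtain ⟨y, h1, h2⟩ := hb q
    change Φ (rg c.Y.D (pt ⟨1⟩ 1) (π q)) (Y.M.map (pt ⟨1⟩ 1) m) = Y.M.map (pt ⟨1⟩ 1) (π q • m)
    rw [← h1, key, h2, sm]
  · obtain ⟨q, rfl⟩ := hπ d
    obtain ⟨y, hy⟩ := LinearMap.rTensor_surjective c.H.O (g := πk c π) hπ ((c.ρ ⟨0⟩).ρ (π q))
    rw [sm, hopf q y hy, ← hy]
    have h3 := map₂_nat (O := c.H.O) (Algebra.lsmul k k (Y.M.obj ⟨0⟩)).toLinearMap
      (Algebra.lsmul k k (Y.M.obj ⟨0⟩) (A := c.Y.D.obj (op ⟨0⟩))).toLinearMap (πk c π) LinearMap.id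
      (fun q n => (sm q n).symm) y (coH.coact m)
    rw [LinearMap.rTensor_id] at h3
    exact h3

omit E in
/-- `k → P → End M` -/
theorem kP_tower {E : Gp k} (X : SObj k A E P) : IsScalarTower k P (X.M.obj ⟨0⟩) := ⟨fun s q m => by
  rw [← algebraMap_smul (A.obj (op ⟨0⟩)) s q, smul_assoc]
  rfl⟩

include hr in
/-- purity, the `H`-coaction being given on an isomorphic module `G` -/
theorem pure_ofPe (Y : SObj k A E P) (hπ : Function.Surjective π)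
    (hk : ∀ q, π q = 0 → ∀ m : Y.M.obj ⟨0⟩, q • m = 0)
    (hb : ∀ q : P, ∃ y : BC (vx A ⟨1⟩ 0) P, toD1 c.Y π y = rg c.Y.D (pt ⟨1⟩ 1) (π q) ∧
      ∀ m : Y.M.obj ⟨0⟩, actM Y y (Y.M.map (pt ⟨1⟩ 1) m) = Y.M.map (pt ⟨1⟩ 1) (q • m))
    {G : Type u} [AddCommGroup G] [Module k G] [Module P G] [IsScalarTower k P G] (e : G ≃ₗ[k] Y.M.obj ⟨0⟩)
    (heq : ∀ (q : P) (g : G), e (q • g) = q • e g) (coH : HopfRep.Comod k c.H.O G)
    (thr : ∀ g : G, (Y.e.co ⟨0⟩).coact (e g) = (e : G →ₗ[k] Y.M.obj ⟨0⟩).rTensor E.O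
      ((ι : c.H.O →ₐ[k] E.O).toLinearMap.lTensor G (coH.coact g)))
    (hopf : ∀ (q : P) (y : P ⊗[k] c.H.O), (πk c π).rTensor c.H.O y = (c.ρ ⟨0⟩).ρ (π q) → ∀ g : G,
      coH.coact (q • g) = TensorProduct.map₂ (Algebra.lsmul k k G).toLinearMap (LinearMap.mul k c.H.O) y
        (coH.coact g)) :
    Nonempty (Pure c ι π Y) := by
  haveI := kP_tower Y
  have hcoH : ∀ g, (ComodTens.Comod.ofEquiv e coH).coact (e g) =
      (e : G →ₗ[k] Y.M.obj ⟨0⟩).rTensor c.H.O (coH.coact g) := fun g => ComodTens.ofEquiv_coact_apply e coH g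
  refine pure_ofP c ι π r hr Y hπ hk hb (ComodTens.Comod.ofEquiv e coH) (fun m => ?_) (fun q y hy m => ?_)
  · obtain ⟨g, rfl⟩ := e.surjective m
    rw [thr, hcoH]
    change ((e : G →ₗ[k] Y.M.obj ⟨0⟩).rTensor E.O ∘ₗ (ι : c.H.O →ₐ[k] E.O).toLinearMap.lTensor G)
      (coH.coact g) = ((ι : c.H.O →ₐ[k] E.O).toLinearMap.lTensor _ ∘ₗ
        (e : G →ₗ[k] Y.M.obj ⟨0⟩).rTensor c.H.O) (coH.coact g)
    rw [LinearMap.rTensor_comp_lTensor, LinearMap.lTensor_comp_rTensor]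
  · obtain ⟨g, rfl⟩ := e.surjective m
    rw [← heq, hcoH, hcoH, hopf q y hy]
    have h3 := map₂_nat (O := c.H.O) (Algebra.lsmul k k G).toLinearMap
      (Algebra.lsmul k k (Y.M.obj ⟨0⟩)).toLinearMap (LinearMap.id : P →ₗ[k] P)
      (e : G →ₗ[k] Y.M.obj ⟨0⟩) (fun q n => heq q n) y (coH.coact g)
    rw [LinearMap.rTensor_id] at h3
    exact h3

section Gr

variable (X : SObj k A E P) {W W' : Submodule P (X.M.obj ⟨0⟩)} (h : Stab X W) (h' : Stab X W') (hle : W' ≤ W)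

include hr in
/-- **the graded pieces are pure** -/
theorem pure_gr (hπ : Function.Surjective π)
    (ha : ∀ q, π q = 0 → ∀ w ∈ W, q • w ∈ W')
    (hb : ∀ q : P, ∃ y : BC (vx A ⟨1⟩ 0) P, toD1 c.Y π y = rg c.Y.D (pt ⟨1⟩ 1) (π q) ∧
      ∀ w ∈ W, actM X y (X.M.map (pt ⟨1⟩ 1) w) - X.M.map (pt ⟨1⟩ 1) (q • w) ∈ gen X.M (rS X W') ⟨1⟩)
    {L G : Type u} [AddCommGroup L] [Module k L] [Module P L] [AddCommGroup G] [Module k G] [Module P G]
    [IsScalarTower k P G] (v : L →ₗ[k] X.M.obj ⟨0⟩) (hv : ∀ l, v l ∈ W) (hv' : ∀ w ∈ W, ∃ l, v l = w)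
    (vq : ∀ (q : P) (l : L), v (q • l) = q • v l)
    (p : L →ₗ[k] G) (hp : Function.Surjective p) (pq : ∀ (q : P) (l : L), p (q • l) = q • p l)
    (hpk : ∀ l, p l = 0 ↔ v l ∈ W')
    (coH : HopfRep.Comod k c.H.O G)
    (compat : ∀ l : L, ∃ z : L ⊗[k] E.O, v.rTensor E.O z = (X.e.co ⟨0⟩).coact (v l) ∧
      p.rTensor E.O z = (ι : c.H.O →ₐ[k] E.O).toLinearMap.lTensor G (coH.coact (p l)))
    (hopf : ∀ (q : P) (y : P ⊗[k] c.H.O), (πk c π).rTensor c.H.O y = (c.ρ ⟨0⟩).ρ (π q) → ∀ g : G,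
      coH.coact (q • g) = TensorProduct.map₂ (Algebra.lsmul k k G).toLinearMap (LinearMap.mul k c.H.O) y
        (coH.coact g)) :
    Nonempty (Pure c ι π (grS X h h' hle)) := by
  -- `W → gr`
  let jw : L →ₗ[k] (sub X W h).M.obj ⟨0⟩ :=
    { toFun := fun l => ⟨v l, mem_gen_zero.2 (hv l)⟩
      map_add' := fun a b => Subtype.ext (map_add v a b)
      map_smul' := fun s a => Subtype.ext (map_smul v s a) }
  have hjw : ∀ m : (sub X W h).M.obj ⟨0⟩, ∃ l, jw l = m := fun m => by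
    obtain ⟨l, hl⟩ := hv' _ (incP_mem h m)
    exact ⟨l, incP_injective h hl⟩
  have hvj : v = ((subInc h ⟨0⟩).restrictScalars k) ∘ₗ jw := LinearMap.ext fun _ => rfl
  let V : L →ₗ[k] (grS X h h' hle).M.obj ⟨0⟩ := ((grHom h h' hle).f ⟨0⟩).restrictScalars k ∘ₗ jw
  have hV : Function.Surjective V := fun m => by
    obtain ⟨m, rfl⟩ := grHom_surjective h h' hle ⟨0⟩ m
    obtain ⟨l, rfl⟩ := hjw m
    exact ⟨l, rfl⟩
  have hV0 : ∀ l, V l = 0 ↔ v l ∈ W' := fun l => grHom_eq_zero h h' hle (jw l)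
  have hVq : ∀ (q : P) (l : L), V (q • l) = q • V l := fun q l => by
    have e1 : jw (q • l) = q • jw l := Subtype.ext (vq q l)
    change (grHom h h' hle).f ⟨0⟩ (jw (q • l)) = _
    rw [e1]
    exact (grHom h h' hle).pl q (jw l)
  have hker : LinearMap.ker p = LinearMap.ker V := by
    ext l
    rw [LinearMap.mem_ker, LinearMap.mem_ker, hpk, hV0]
  let e : G ≃ₗ[k] (grS X h h' hle).M.obj ⟨0⟩ :=
    (p.quotKerEquivOfSurjective hp).symm.trans
      ((Submodule.quotEquivOfEq _ _ hker).trans (V.quotKerEquivOfSurjective hV))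
  have he : ∀ l, e (p l) = V l := fun l => by
    have h1 : (p.quotKerEquivOfSurjective hp).symm (p l) = Submodule.Quotient.mk l := by
      rw [LinearEquiv.symm_apply_eq]
      rfl
    change (V.quotKerEquivOfSurjective hV) ((Submodule.quotEquivOfEq _ _ hker)
      ((p.quotKerEquivOfSurjective hp).symm (p l))) = V l
    rw [h1]
    rfl
  have heq : ∀ (q : P) (g : G), e (q • g) = q • e g := fun q g => by
    obtain ⟨l, rfl⟩ := hp g
    rw [← pq, he, he, hVq]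
  have he' : (e : G →ₗ[k] (grS X h h' hle).M.obj ⟨0⟩) ∘ₗ p = V := LinearMap.ext he
  refine pure_ofPe c ι π r hr (grS X h h' hle) hπ (fun q hq m => ?_) (fun q => ?_) e heq coH (fun g => ?_) hopf
  · obtain ⟨l, rfl⟩ := hV m
    rw [← hVq, hV0, vq]
    exact ha q hq _ (hv l)
  · obtain ⟨y, h1, h2⟩ := hb q
    refine ⟨y, h1, fun m => ?_⟩
    obtain ⟨m, rfl⟩ := grHom_surjective h h' hle ⟨0⟩ m
    rw [← (grHom h h' hle).pl, ← (grHom h h' hle).nat, ← (grHom h h' hle).nat, ← hom_actM, ← sub_eq_zero, ← map_sub]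
    refine (quoP_eq_zero (stab_comapS h hle h')).2 ?_
    refine subInc_mem_span h hle 0 ?_
    rw [map_sub, hom_actM, (subHom X W h).nat, (subHom X W h).nat, (subHom X W h).pl]
    exact h2 _ (incP_mem h m)
  · obtain ⟨l, rfl⟩ := hp g
    obtain ⟨z, hz1, hz2⟩ := compat l
    have e1 : ((sub X W h).e.co ⟨0⟩).coact (jw l) = jw.rTensor E.O z := by
      apply subInc_rTensor_injective h ⟨0⟩
      refine (subC_spec h ⟨0⟩ (jw l)).trans (hz1.symm.trans ?_)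
      have h5 : v.rTensor E.O z = (((subInc h ⟨0⟩).restrictScalars k) ∘ₗ jw).rTensor E.O z := by rw [← hvj]
      rw [h5, LinearMap.rTensor_comp]
      rfl
    have e2 : ((grS X h h' hle).e.co ⟨0⟩).coact (V l) = V.rTensor E.O z := by
      refine ((grHom h h' hle).equi ⟨0⟩ (jw l)).trans ?_
      rw [e1]
      exact (LinearMap.rTensor_comp_apply ..).symm
    have e3 : V.rTensor E.O z = (e : G →ₗ[k] (grS X h h' hle).M.obj ⟨0⟩).rTensor E.O (p.rTensor E.O z) := by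
      rw [← he', LinearMap.rTensor_comp_apply]
    rw [he, e2, e3, hz2]

end Gr

end Groth.Agent.ResProp.EF.K774

end
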