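import Groth.Agent.ResProp.EF.K774.PureE

/-!
# `Arch.Small` for objects given by descent data

`small_extE`: short exact sequences of `EDesc`s; `small_isoE`; `small_chainE`: a filtration with pure graded pieces.
-/

set_option autoImplicit false
set_option linter.style.haveILetI false
set_option linter.dupNamespace false

open CategoryTheory Opposite TensorProduct

noncomputable section

namespace Groth.Agent.ResProp.EF.K774

open K784.BC K784.PM EF56 K985 Arch Grp K741.RP K980 K980.BC K959 K959.CoBC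

universe u

variable {k : Type u} [CommRing k] {A : NFᵒᵖ ⥤ CommRingCat.{u}} [GRF k A]
  {x : PrimeSpectrum (A.obj (op ⟨0⟩))} (c : CoverDatum k A x) {E : Gp k} (ι : c.H.O →ₐc[k] E.O)
  {P : Type u} [CommRing P] [Algebra (A.obj (op ⟨0⟩)) P] (π : P →ₐ[A.obj (op ⟨0⟩)] c.Y.D.obj (op ⟨0⟩))

section Hom

variable {X X' X'' : EDesc k A E P}

theorem hom_injective {f : X.K →ₗ[A.obj (op ⟨0⟩)] X'.K} (h : EDesc.IsHom X X' f) (hf : Function.Injective f) :
    Function.Injective (h.hom.f ⟨0⟩) := by
  intro a b hab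
  obtain ⟨a, rfl⟩ := X.bc_bijective.2 a
  obtain ⟨b, rfl⟩ := X.bc_bijective.2 b
  have h1 : (bc (vx A ⟨0⟩ 0) (f a) : BC (vx A ⟨0⟩ 0) X'.K) = bc (vx A ⟨0⟩ 0) (f b) :=
    (h.hom_bc a).symm.trans (hab.trans (h.hom_bc b))
  rw [hf (X'.bc_bijective.1 h1)]

theorem hom_surjective {f : X.K →ₗ[A.obj (op ⟨0⟩)] X'.K} (h : EDesc.IsHom X X' f) (hf : Function.Surjective f) :
    Function.Surjective (h.hom.f ⟨0⟩) := by
  intro b
  obtain ⟨b, rfl⟩ := X'.bc_bijective.2 b
  obtain ⟨a, rfl⟩ := hf b
  exact ⟨bc (vx A ⟨0⟩ 0) a, h.hom_bc a⟩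

theorem hom_exact {f : X.K →ₗ[A.obj (op ⟨0⟩)] X'.K} {g : X'.K →ₗ[A.obj (op ⟨0⟩)] X''.K} (hf : EDesc.IsHom X X' f)
    (hg : EDesc.IsHom X' X'' g) (hfg : Function.Exact f g) : Function.Exact (hf.hom.f ⟨0⟩) (hg.hom.f ⟨0⟩) := by
  intro b
  obtain ⟨b, rfl⟩ := X'.bc_bijective.2 b
  have e1 : hg.hom.f ⟨0⟩ (bc (vx A ⟨0⟩ 0) b) = 0 ↔ g b = 0 := by
    rw [hg.hom_bc]
    constructor
    · intro h
      exact X''.bc_bijective.1 (h.trans (map_zero (bc (vx A ⟨0⟩ 0) : X''.K →ₛₗ[vx A ⟨0⟩ 0] BC (vx A ⟨0⟩ 0) X''.K)).symm)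
    · intro h
      rw [h]
      exact map_zero (bc (vx A ⟨0⟩ 0) : X''.K →ₛₗ[vx A ⟨0⟩ 0] BC (vx A ⟨0⟩ 0) X''.K)
  rw [e1, hfg b]
  constructor
  · rintro ⟨a, rfl⟩
    exact ⟨bc (vx A ⟨0⟩ 0) a, hf.hom_bc a⟩
  · rintro ⟨a, ha⟩
    obtain ⟨a, rfl⟩ := X.bc_bijective.2 a
    exact ⟨a, X'.bc_bijective.1 ((hf.hom_bc a).symm.trans ha)⟩

/-- **extensions** -/
theorem small_extE {f : X.K →ₗ[A.obj (op ⟨0⟩)] X'.K} {g : X'.K →ₗ[A.obj (op ⟨0⟩)] X''.K} (hf : EDesc.IsHom X X' f)
    (hg : EDesc.IsHom X' X'' g) (h1 : Function.Injective f) (h2 : Function.Exact f g) (h3 : Function.Surjective g)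
    (s : Small c ι π X.sobj) (s' : Small c ι π X''.sobj) : Small c ι π X'.sobj :=
  Small.ext _ _ _ hf.hom hg.hom (hom_injective hf h1) (hom_exact hf hg h2) (hom_surjective hg h3) s s'

end Hom

/-- isomorphic objects: it is enough that the map is bijective on the chart. -/
theorem small_iso {Y Z : SObj k A E P} (f : Y.Hom Z) (hf : Function.Bijective (f.f ⟨0⟩)) (s : Small c ι π Y) :
    Small c ι π Z := by
  let Q : SObj k A E P :=
    { M := { obj := fun a => PUnit
             map := fun _ => 0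
             map_smul := fun _ _ _ => rfl
             map_id := fun _ _ => rfl
             map_comp := fun _ _ _ => rfl }
      cart := fun a b φ => IsBC.of_lift (fun _ _ => rfl) fun Q _ _ g hg => by
        refine ⟨0, fun m => ?_, fun g' _ => LinearMap.ext fun m => ?_⟩
        · exact (map_zero g).symm
        · exact map_zero g'
      e := { co := fun a => { coact := 0
                              coassoc := LinearMap.ext fun m => by
                                simp
                              counit_comp := LinearMap.ext fun m => by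
                                have : m = 0 := rfl
                                rw [this, map_zero, map_zero] }
             lin := fun a r m => by
               change (0 : _ ⊗[k] E.O) = _
               exact (map_zero _).symm
             nat := fun φ m => by
               change (0 : _ ⊗[k] E.O) = _
               exact (map_zero _).symm }
      pm := { smul := fun _ _ => PUnit.unit
              one_smul := fun _ => rfl
              mul_smul := fun _ _ _ => rfl
              smul_zero := fun _ => rfl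
              smul_add := fun _ _ _ => rfl
              add_smul := fun _ _ _ => rfl
              zero_smul := fun _ => rfl }
      tw := ⟨fun _ _ _ => rfl⟩ }
  let q : Z.Hom Q :=
    { f := fun a => 0
      nat := fun _ _ => rfl
      equi := fun a m => by
        change (0 : _ ⊗[k] E.O) = _
        have : ((0 : Z.M.obj a →ₗ[A.obj (op a)] Q.M.obj a).restrictScalars k) = 0 := rfl
        rw [this, LinearMap.rTensor_zero]
        rfl
      pl := fun _ _ => rfl }
  refine Small.ext Y Z Q f q hf.1 (fun m => ?_) (fun m => ⟨0, rfl⟩) s (Small.zero _ ⟨fun _ _ => rfl⟩)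
  exact ⟨fun _ => hf.2 m, fun _ => rfl⟩

theorem small_isoE {X X' : EDesc k A E P} {f : X.K →ₗ[A.obj (op ⟨0⟩)] X'.K} (h : EDesc.IsHom X X' f)
    (hf : Function.Bijective f) (s : Small c ι π X.sobj) : Small c ι π X'.sobj :=
  small_iso c ι π h.hom ⟨hom_injective h hf.1, hom_surjective h hf.2⟩ s

/-- **a filtration with pure graded pieces** -/
theorem small_chainE (N : ℕ) (EF EG : ℕ → EDesc k A E P)
    (i : ∀ n, (EF (n + 1)).K →ₗ[A.obj (op ⟨0⟩)] (EF n).K) (hi : ∀ n, EDesc.IsHom (EF (n + 1)) (EF n) (i n))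
    (q : ∀ n, (EF n).K →ₗ[A.obj (op ⟨0⟩)] (EG n).K) (hq : ∀ n, EDesc.IsHom (EF n) (EG n) (q n))
    (h1 : ∀ n, Function.Injective (i n)) (h2 : ∀ n, Function.Exact (i n) (q n)) (h3 : ∀ n, Function.Surjective (q n))
    (h0 : Subsingleton (EF N).K) (hp : ∀ n, n < N → Nonempty (Pure c ι π (EG n).sobj)) (n : ℕ) (hn : n ≤ N) :
    Small c ι π (EF n).sobj := by
  obtain ⟨m, rfl⟩ := Nat.exists_eq_add_of_le hn
  clear hn
  induction m generalizing n with
  | zero =>
    refine Small.zero _ ⟨fun a b => ?_⟩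
    obtain ⟨a, rfl⟩ := (EF n).bc_bijective.2 a
    obtain ⟨b, rfl⟩ := (EF n).bc_bijective.2 b
    have : Subsingleton (EF n).K := h0
    rw [Subsingleton.elim a b]
  | succ m ih =>
    have e : n + (m + 1) = n + 1 + m := by omega
    refine small_extE c ι π (hi n) (hq n) (h1 n) (h2 n) (h3 n) (ih (n + 1) ?_ ?_) (Small.pure _ (hp n (by omega)))
    · rw [← e]
      exact h0
    · intro j hj
      exact hp j (by omega)

end Groth.Agent.ResProp.EF.K774

end
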